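import Cfsg.Agent.H815.OddM.PspReal
import Cfsg.Agent.H453.OddM.Asm
import Cfsg.Agent.H97.Sp4Ext
import Cfsg.Agent.H264.FKS.SpFour
import Cfsg.Agent.H57.BG.SpKill
import Cfsg.Agent.H278.ElResRow
import Cfsg.Agent.S5787
import Cfsg.Agent.S5788

/-!
# `PSp_4(q)`, `q` odd: no maximal subgroup is `Cov` (TEAM ODDM, S4785)
-/

set_option autoImplicit false

namespace Cfsg.Agent.H815.OddM

open Cfsg Cfsg.Geo Matrix Cfsg.Agent.H453.OddM
open Cfsg.Agent.H262.El (pre mem_pre pre_le psp_miss spToGL_injective)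
open Cfsg.Agent.ClassicalGeometry.SympBasic Cfsg.Agent.H876 Cfsg.Agent.H931
open scoped MatrixGroups

section Field

variable {F : Type} [Field F]

theorem exists_nonscalar {K : Subalgebra F (Matrix (Fin 2 ⊕ Fin 2) (Fin 2 ⊕ Fin 2) F)} (hK : IsFieldSubalgebra 2 K) :
    ∃ k ∈ K, ∀ a : F, k ≠ a • 1 := by
  by_contra hcon
  push Not at hcon
  have h1 : K = ⊥ := by
    rw [eq_bot_iff]
    intro k hk
    obtain ⟨a, ha⟩ := hcon k hk
    rw [ha, ← Algebra.algebraMap_eq_smul_one]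
    exact Algebra.mem_bot.2 ⟨a, rfl⟩
  have h := hK.finrank_eq
  rw [h1, Subalgebra.finrank_bot] at h
  omega

theorem wElt_sq : wElt F * wElt F = -1 := by
  apply Subtype.ext
  show !![(0 : F), 1; -1, 0] * !![0, 1; -1, 0] = -1
  ext i j
  fin_cases i <;> fin_cases j <;> simp [Matrix.mul_apply, Fin.sum_univ_two]

theorem neg_one_vec {v : Fin 2 ⊕ Fin 2 → F} (h2 : (2 : F) ≠ 0)
    (h : (H133.SLPower.phi ![1, wElt F * wElt F] : symplecticGroup (Fin 2) F).1 *ᵥ v = -v) :
    v (Sum.inl 0) = 0 ∧ v (Sum.inr 0) = 0 := by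
  have e : ∀ x : F, x = -x → x = 0 := by
    intro x hx
    have : 2 * x = 0 := by linear_combination hx
    exact (mul_eq_zero.1 this).resolve_left h2
  have hv : v = Sum.elim (v ∘ Sum.inl) (v ∘ Sum.inr) := (Sum.elim_comp_inl_inr v).symm
  have h1 : (fromBlocks (diagonal fun i => ((![1, wElt F * wElt F] : Fin 2 → SL(2, F)) i) 0 0)
    (diagonal fun i => ((![1, wElt F * wElt F] : Fin 2 → SL(2, F)) i) 0 1)
    (diagonal fun i => ((![1, wElt F * wElt F] : Fin 2 → SL(2, F)) i) 1 0)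
    (diagonal fun i => ((![1, wElt F * wElt F] : Fin 2 → SL(2, F)) i) 1 1)) *ᵥ v = -v := h
  constructor
  · have h3 := congrFun h1 (Sum.inl 0)
    rw [hv, fromBlocks_mulVec] at h3
    simp at h3
    exact e _ h3
  · have h3 := congrFun h1 (Sum.inr 0)
    rw [hv, fromBlocks_mulVec] at h3
    simp at h3
    exact e _ h3

theorem neg_one_single :
    (H133.SLPower.phi ![1, wElt F * wElt F] : symplecticGroup (Fin 2) F).1 *ᵥ (Pi.single (Sum.inl 1) 1) =
      -(Pi.single (Sum.inl 1) 1 : Fin 2 ⊕ Fin 2 → F) := by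
  show (fromBlocks (diagonal fun i => ((![1, wElt F * wElt F] : Fin 2 → SL(2, F)) i) 0 0)
    (diagonal fun i => ((![1, wElt F * wElt F] : Fin 2 → SL(2, F)) i) 0 1)
    (diagonal fun i => ((![1, wElt F * wElt F] : Fin 2 → SL(2, F)) i) 1 0)
    (diagonal fun i => ((![1, wElt F * wElt F] : Fin 2 → SL(2, F)) i) 1 1)) *ᵥ (Pi.single (Sum.inl 1) 1) = _
  rw [mulVec_single_one, wElt_sq]
  ext j
  rcases j with j | j <;> fin_cases j <;> simp

/-- the elements of order `4` of the form `(1, w)` do not lie in the normaliser of a self-adjoint quadratic field -/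
theorem even_of_field [Fintype F] (h2 : (2 : F) ≠ 0) {K : Subalgebra F (Matrix (Fin 2 ⊕ Fin 2) (Fin 2 ⊕ Fin 2) F)}
    {R : Subgroup (PSp 2 F)} (hK : IsFieldSubalgebra 2 K) (hsa : IsSelfAdjointFor (sympForm 2 F) K)
    (hR : pre R ≤ subalgebraNormalizer K) : ¬ Odd R.index := by
  intro hodd
  let w : SL(2, F) := wElt F
  let x : symplecticGroup (Fin 2) F := H133.SLPower.phi ![1, w]
  have hxx : x * x = H133.SLPower.phi ![1, w * w] := by
    show H133.SLPower.phi _ * H133.SLPower.phi _ = _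
    rw [← map_mul]
    congr 1
    funext i
    fin_cases i
    · exact mul_one 1
    · rfl
  have hx4 : x ^ 4 = 1 := by
    have e : x ^ 4 = (x * x) * (x * x) := by simp only [pow_succ, pow_zero, one_mul, mul_assoc]
    rw [e, hxx, ← map_mul]
    have h1 : (![1, w * w] * ![1, w * w] : Fin 2 → SL(2, F)) = 1 := by
      funext i
      fin_cases i
      · exact mul_one 1
      · show w * w * (w * w) = 1
        rw [wElt_sq]
        simp
    rw [h1, map_one]
  set H := R.comap (QuotientGroup.mk' (Subgroup.center (Matrix.symplecticGroup (Fin 2) F))) with hH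
  have hHi : H.index = R.index := Subgroup.index_comap_of_surjective _ (QuotientGroup.mk'_surjective _)
  have hE : IsPGroup 2 (Subgroup.zpowers x) := by
    rintro ⟨y, hy⟩
    obtain ⟨k, rfl⟩ := Subgroup.mem_zpowers_iff.1 hy
    refine ⟨2, Subtype.ext ?_⟩
    show (x ^ k) ^ (2 ^ 2) = 1
    rw [← zpow_natCast, ← _root_.zpow_mul, mul_comm, _root_.zpow_mul, zpow_natCast]
    norm_num
    rw [hx4, _root_.one_zpow]
  obtain ⟨c, hc⟩ := hE.nonempty_fixed_point_of_prime_not_dvd_card (Matrix.symplecticGroup (Fin 2) F ⧸ H) (by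
    change ¬ 2 ∣ H.index
    rw [hHi]
    exact fun h => (Nat.not_even_iff_odd.2 hodd) (even_iff_two_dvd.2 h))
  obtain ⟨s, rfl⟩ := QuotientGroup.mk_surjective c
  have hin : s⁻¹ * x * s ∈ H := by
    have h1 : ((x * s : Matrix.symplecticGroup (Fin 2) F) : Matrix.symplecticGroup (Fin 2) F ⧸ H) = s :=
      hc ⟨x, Subgroup.mem_zpowers x⟩
    have h2 := QuotientGroup.eq.1 h1.symm
    rwa [← mul_assoc] at h2
  have hy : spToGL 2 F (s⁻¹ * x * s) ∈ pre R := mem_pre.2 hin
  have hyN := hR hy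
  -- the square centralises `K`
  have hcomm : ∀ k ∈ K, (s⁻¹ * (x * x) * s : symplecticGroup (Fin 2) F).1 * k =
      k * (s⁻¹ * (x * x) * s : symplecticGroup (Fin 2) F).1 := by
    intro k hk
    let g : subalgebraNormalizer K := ⟨_, hyN⟩
    have h3 : H57.BG.galHom K (g * g) = 1 := by
      rw [map_mul, ← pow_two]
      have := pow_card_eq_one' (x := H57.BG.galHom K g)
      rwa [H57.BG.card_gal hK] at this
    have h4 := congrArg (fun φ : K ≃ₐ[F] K => ((φ ⟨k, hk⟩ : K) : Matrix (Fin 2 ⊕ Fin 2) (Fin 2 ⊕ Fin 2) F)) h3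
    have h5 : (((g * g : subalgebraNormalizer K) : GL (Fin 2 ⊕ Fin 2) F) : Matrix (Fin 2 ⊕ Fin 2) (Fin 2 ⊕ Fin 2) F) * k *
        ((((g * g : subalgebraNormalizer K) : GL (Fin 2 ⊕ Fin 2) F)⁻¹ : GL (Fin 2 ⊕ Fin 2) F) :
          Matrix (Fin 2 ⊕ Fin 2) (Fin 2 ⊕ Fin 2) F) = k := h4
    have h6 : (((g * g : subalgebraNormalizer K) : GL (Fin 2 ⊕ Fin 2) F) : Matrix (Fin 2 ⊕ Fin 2) (Fin 2 ⊕ Fin 2) F) =
        (s⁻¹ * (x * x) * s : symplecticGroup (Fin 2) F).1 := by
      have e1 : s⁻¹ * (x * x) * s = (s⁻¹ * x * s) * (s⁻¹ * x * s) := by group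
      rw [e1]
      rfl
    rw [← h6]
    conv_rhs => rw [← h5]
    rw [mul_assoc, mul_assoc, ← Units.val_mul, inv_mul_cancel, Units.val_one, mul_one]
  -- the vectors
  have hss : s.1 * (s⁻¹).1 = 1 := congrArg Subtype.val (mul_inv_cancel s)
  have hss' : (s⁻¹).1 * s.1 = 1 := congrArg Subtype.val (inv_mul_cancel s)
  let e : Fin 2 ⊕ Fin 2 → F := Pi.single (Sum.inl 1) 1
  obtain ⟨v, hv⟩ : ∃ v : Fin 2 ⊕ Fin 2 → F, v = (s⁻¹).1 *ᵥ e := ⟨_, rfl⟩
  have hSv : s.1 *ᵥ v = e := by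
    rw [hv, mulVec_mulVec, hss, one_mulVec]
  have hv0 : v ≠ 0 := by
    intro h
    rw [h, mulVec_zero] at hSv
    have := congrFun hSv (Sum.inl 1)
    simp [e] at this
  have key : ∀ k ∈ K, ∃ a : F, k *ᵥ v = a • v := by
    intro k hk
    set t : Fin 2 ⊕ Fin 2 → F := s.1 *ᵥ (k *ᵥ v) with ht
    have hkv : k *ᵥ v = (s⁻¹).1 *ᵥ t := by
      rw [ht, mulVec_mulVec (k *ᵥ v), hss', one_mulVec]
    have hZ : (H133.SLPower.phi ![1, wElt F * wElt F] : symplecticGroup (Fin 2) F).1 *ᵥ t = -t := by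
      have h1 : (H133.SLPower.phi ![1, wElt F * wElt F] : symplecticGroup (Fin 2) F).1 = (x * x).1 := by rw [hxx]
      have h7 : (x * x).1 *ᵥ e = -e := by
        rw [← h1]
        exact neg_one_single
      have h8 : (s⁻¹ * (x * x) * s : symplecticGroup (Fin 2) F).1 *ᵥ v = -v := by
        show ((s⁻¹).1 * (x * x).1 * s.1) *ᵥ v = -v
        rw [← mulVec_mulVec, ← mulVec_mulVec, hSv, h7, mulVec_neg, ← hv]
      have h9 : (x * x).1 * s.1 = s.1 * (s⁻¹ * (x * x) * s : symplecticGroup (Fin 2) F).1 := by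
        show _ = s.1 * ((s⁻¹).1 * (x * x).1 * s.1)
        rw [← mul_assoc, ← mul_assoc, hss, one_mul]
      rw [h1, ht, mulVec_mulVec, h9, ← mulVec_mulVec, mulVec_mulVec _ _ k, hcomm k hk, ← mulVec_mulVec, h8,
        mulVec_neg, mulVec_neg]
    obtain ⟨ht1, ht2⟩ := neg_one_vec h2 hZ
    have hf : sympForm 2 F t e = 0 := by
      rw [ht, ← hSv, sympForm_mulVec s.2]
      have h5 := hsa k hk v v
      rw [sympForm_swap v] at h5
      have h6 : 2 * sympForm 2 F (k *ᵥ v) v = 0 := by linear_combination h5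
      exact (mul_eq_zero.1 h6).resolve_left h2
    have ht3 : t (Sum.inr 1) = 0 := by
      rw [sympForm_single_inl_right] at hf
      exact hf
    refine ⟨t (Sum.inl 1), ?_⟩
    have ht4 : t = t (Sum.inl 1) • e := by
      funext j
      rcases j with j | j <;> fin_cases j
      · simpa [e] using ht1
      · simp [e]
      · simpa [e] using ht2
      · simpa [e] using ht3
    rw [hkv]
    conv_lhs => rw [ht4]
    rw [mulVec_smul, ← hv]
  obtain ⟨k, hk, hns⟩ := exists_nonscalar hK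
  obtain ⟨a, ha⟩ := key k hk
  have hka : k - a • 1 ∈ K := K.sub_mem hk (K.smul_mem K.one_mem a)
  obtain ⟨y, hy, hky⟩ := hK.inv _ hka (sub_ne_zero.2 (hns a))
  have h9 : (k - a • 1) *ᵥ v = 0 := by rw [sub_mulVec, ha, smul_mulVec, one_mulVec, sub_self]
  have h10 : y * (k - a • 1) = 1 := by rw [← hK.comm _ hka y hy, hky]
  apply hv0
  rw [← one_mulVec v, ← h10, ← mulVec_mulVec, h9, mulVec_zero]

end Field

section Main

variable {F : Type} [Field F] [Fintype F]

theorem two_ne (hodd : Odd (Fintype.card F)) : (2 : F) ≠ 0 := by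
  intro h
  obtain ⟨p, hch⟩ := CharP.exists F
  obtain ⟨n, hp, hn⟩ := FiniteField.card F p
  have h1 : p ∣ 2 := (CharP.cast_eq_zero_iff F p 2).1 (by exact_mod_cast h)
  have h3 : p = 2 := (Nat.prime_dvd_prime_iff_eq hp Nat.prime_two).1 h1
  rw [hn, h3] at hodd
  exact absurd hodd (by rw [Nat.not_odd_iff_even]; exact (even_two).pow_of_ne_zero n.ne_zero)

/-- the odd primes -/
theorem dvd_of_cov (hodd : Odd (Fintype.card F)) {M : Subgroup (PSp 2 F)} (hM : Cov (PSp 2 F) M) {r : ℕ}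
    (hr : r.Prime) (hr2 : r ≠ 2) (hd : r ∣ Nat.card (spGL 2 F)) : r ∣ Nat.card M := by
  have h2 := two_ne hodd
  rw [H57.BG.card_sp, Finset.prod_range_succ, Finset.prod_range_one] at hd
  have hq := Fintype.card_pos (α := F)
  have hro : Odd r := hr.odd_of_ne_two hr2
  have hcase : r ∣ Fintype.card F ∨ r ∣ Fintype.card F ^ (2 * 2) - 1 := by
    rcases hr.dvd_mul.1 hd with h | h
    · exact Or.inl (hr.dvd_of_dvd_pow h)
    · right
      rcases hr.dvd_mul.1 h with h | h
      · refine h.trans ?_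
        exact Nat.pow_sub_one_dvd_pow_sub_one _ (by norm_num)
      · exact h
  rcases hcase with h | h
  · obtain ⟨p, hch⟩ := CharP.exists F
    obtain ⟨n, hp, hn⟩ := FiniteField.card F p
    rw [hn] at h
    have h3 : r = p := (Nat.prime_dvd_prime_iff_eq hr hp).1 (hr.dvd_of_dvd_pow h)
    subst h3
    exact hM.dvd (realP_char hr hro)
  · have h3 := (dvd_iff_of_prime_pow (k := 2) (a := 1) hr hr2 hq).1 (by rwa [pow_one])
    rw [pow_one] at h3
    exact hM.dvd (realP_psp h2 (k := 2) (by norm_num) le_rfl hro h3)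

omit [Fintype F] in
theorem card_spGL_eq : Nat.card (spGL 2 F) = Nat.card (symplecticGroup (Fin 2) F) := by
  rw [H57.BG.spGL_eq_map, Subgroup.card_map_of_injective spToGL_injective, Subgroup.card_top]

theorem not_miss (hodd : Odd (Fintype.card F)) {M : Subgroup (PSp 2 F)} (hM : Cov (PSp 2 F) M) :
    ¬ H884.El.Miss M := by
  rintro ⟨r, hr, hd, hnd⟩
  apply hnd
  by_cases hr2 : r = 2
  · subst hr2
    have := (hM.two_part (k := 1)).1 (by rwa [pow_one])
    rwa [pow_one] at this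
  · refine dvd_of_cov hodd hM hr hr2 (hd.trans ?_)
    rw [card_spGL_eq]
    exact Subgroup.card_quotient_dvd_card _

theorem card_psl_dvd : Nat.card (ProjectiveSpecialLinearGroup (Fin 2) F) ∣
    Fintype.card F * (Fintype.card F ^ 2 - 1) := by
  have h1 : Nat.card (ProjectiveSpecialLinearGroup (Fin 2) F) ∣ Nat.card (SpecialLinearGroup (Fin 2) F) :=
    Subgroup.card_quotient_dvd_card _
  rwa [Cfsg.Agent.ClassicalGeometry.PSL2Basic.card_SL2] at h1

/-- the residual class -/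
theorem res_false (hodd : Odd (Fintype.card F)) {M : Subgroup (PSp 2 F)} (hMc : IsCoatom M)
    (hM : Cov (PSp 2 F) M) (h : InSymplecticResidualClass (pre M)) : False := by
  obtain ⟨P, p, hP, hp, hch, hcases⟩ := Cfsg.Agent.S5788.result hodd (pre M) (H264.FKS.isMaximalIn_pre hMc) h
  obtain ⟨S, hSn, hSs, hSna, hSC, ⟨e⟩⟩ := H264.FKS.exists_socle (spToGL 2 F) spToGL_injective
    (QuotientGroup.mk' (Subgroup.center (symplecticGroup (Fin 2) F))) (QuotientGroup.mk'_surjective _)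
    H264.FKS.hker_sp (M := M) hP
  have hMd : Nat.card M ∣ Nat.card (MulAut S) := H264.FKS.dvd_aut S hSC
  have hcard := H57.BG.card_sp (F := F) (m := 2)
  rw [Finset.prod_range_succ, Finset.prod_range_one] at hcard
  rcases hcases with ⟨⟨e'⟩, hF, h5, h7⟩ | ⟨⟨e'⟩, hF⟩ | ⟨⟨e'⟩, h5, h7⟩
  · -- `A_6`
    rw [Nat.card_congr (MulAut.congr (e.trans e')).toEquiv] at hMd
    have hle : ∀ u : ℕ, u.Prime → u ≠ 2 → u ∣ Nat.card (spGL 2 F) → u ≤ 5 := fun u hu hu2 hd =>
      H278.El.ResRow.card_aut_six u hu ((dvd_of_cov hodd hM hu hu2 hd).trans hMd)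
    by_cases hp5 : p = 5
    · have h13 := hle 13 (by norm_num) (by norm_num) (by
        rw [hcard, hF, hp5]
        norm_num)
      omega
    · have := hle p hp (by omega) (by
        rw [hcard, hF]
        exact (dvd_pow_self p (by norm_num)).mul_right _)
      interval_cases p
      omega
  · -- `A_7`
    rw [Nat.card_congr (MulAut.congr (e.trans e')).toEquiv] at hMd
    have h1 : Nat.card (MulAut (alternatingGroup (Fin 7))) = Nat.card (Equiv.Perm (Fin 7)) :=
      (Nat.card_congr (Equiv.ofBijective _ (S2119.result 7 (by omega) (by omega)))).symm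
    rw [h1, Nat.card_perm, Nat.card_fin] at hMd
    have h2 := Subgroup.card_eq_card_quotient_mul_card_subgroup (Subgroup.center (symplecticGroup (Fin 2) F))
    rw [← card_spGL_eq, hcard, hF, Cfsg.Agent.S0246.result (q := 7) hF 2 (by norm_num)] at h2
    have h3 : 2 ^ 5 ∣ Nat.card (PSp 2 F) := by
      have h4 : Nat.card (PSp 2 F) * 2 = 7 ^ (2 ^ 2) * ((7 ^ (2 * (0 + 1)) - 1) * (7 ^ (2 * (1 + 1)) - 1)) := h2.symm
      norm_num at h4
      omega
    have h5 := ((hM.two_part (k := 5)).1 h3).trans hMd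
    revert h5
    decide
  · -- `PSL_2(q)`
    obtain ⟨n, hp', hn⟩ := FiniteField.card F p
    have := Fact.mk hp
    have hn1 : 1 ≤ (n : ℕ) := n.2
    obtain ⟨r, hr⟩ := Cfsg.Agent.H163.PG.exists_ppd (p := p) (f := n) (k := 4) hp.two_le (by omega) (by omega)
    have hdvd : ∀ j, r ∣ p ^ j - 1 ↔ (n : ℕ) * 4 ∣ j := hr.dvd_iff hp.one_lt.le
    have hrlt : (n : ℕ) * 4 < r := hr.lt (by omega)
    have hr2 : r ≠ 2 := by omega
    have hrM : r ∣ Nat.card M := by
      refine dvd_of_cov hodd hM hr.prime hr2 ?_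
      rw [hcard, hn]
      refine Dvd.dvd.mul_left (Dvd.dvd.mul_left ?_ _) _
      rw [← pow_mul, hdvd]
    have h1 := hrM.trans hMd
    have hs : IsSimpleGroup (ProjectiveSpecialLinearGroup (Fin 2) F) := (e.trans e').symm.isSimpleGroup
    have hna : ¬ IsMulCommutative (ProjectiveSpecialLinearGroup (Fin 2) F) := by
      intro hc
      apply hSna
      refine ⟨⟨fun a b => (e.trans e').injective ?_⟩⟩
      rw [map_mul, map_mul, hc.is_comm.comm]
    rw [Nat.card_congr (MulAut.congr (e.trans e')).toEquiv, ← H934.OutB.card_out_mul _ hna,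
      H499.TT.card_out_psl2 hp hn1 hn (by rw [← hn]; omega)] at h1
    rcases hr.prime.dvd_mul.1 h1 with h2 | h2
    · rcases hr.prime.dvd_mul.1 h2 with h3 | h3
      · have := Nat.le_of_dvd (by norm_num) (h3.trans (Nat.gcd_dvd_left _ _))
        omega
      · have := Nat.le_of_dvd (by omega) h3
        omega
    · have h3 := h2.trans card_psl_dvd
      rw [hn] at h3
      rcases hr.prime.dvd_mul.1 h3 with h4 | h4
      · have h6 := (Nat.prime_dvd_prime_iff_eq hr.prime hp).1 (hr.prime.dvd_of_dvd_pow h4)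
        have h8 := (hdvd (n * 4)).2 dvd_rfl
        have h9 : r ∣ p ^ ((n : ℕ) * 4) := by rw [h6]; exact dvd_pow_self p (by omega)
        have h10 := Nat.dvd_sub h9 h8
        rw [Nat.sub_sub_self (Nat.one_le_pow _ _ hp.pos)] at h10
        exact hr.prime.one_lt.ne' (Nat.dvd_one.1 h10)
      · rw [← pow_mul, hdvd] at h4
        have := Nat.le_of_dvd (by omega) h4
        omega

/-- `q = 3` -/
theorem three_false (h3 : Fintype.card F = 3) {M : Subgroup (PSp 2 F)} (hMc : IsCoatom M)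
    (hM : Cov (PSp 2 F) M) : False := by
  have hodd : Odd (Fintype.card F) := by rw [h3]; decide
  have h2 := two_ne hodd
  have h5 : 5 ∣ Nat.card M := dvd_of_cov hodd hM (by norm_num) (by norm_num) (by
    rw [H57.BG.card_sp, Finset.prod_range_succ, Finset.prod_range_one, h3]
    norm_num)
  have hpre : 5 ∣ Nat.card (pre M) := h5.trans (H262.El.card_pre_eq M)
  have hppd : Cfsg.Agent.H163.PG.Ppd 3 (1 * (2 * 2)) 5 := by
    refine ⟨by norm_num, ?_⟩
    have h := orderOf_eq_prime_pow (x := ((3 : ℕ) : ZMod 5)) (p := 2) (n := 1) (by decide) (by decide)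
    rw [h]
    norm_num
  obtain ⟨k1, k2, k5, k7⟩ := H262.El.not_le_of_irr (m := 2) le_rfl (p := 3) (f := 1) Nat.prime_three le_rfl
    (by rw [h3]; norm_num) hppd hpre
  rcases Cfsg.Agent.S5787.result hodd (pre M) (H264.FKS.isMaximalIn_pre hMc) with
    ⟨W, hW0, hW, hE⟩ | ⟨D, hD, hE⟩ | ⟨h, -⟩ | ⟨K, hK, hsa, -, hE⟩ | ⟨h, -⟩ | ⟨F₀, r, P, ζ, hr, hc, -, -, hE⟩ | h7 | h8
  · exact k1 W hW0 (H262.El.totallySingular_ne_top (by omega) hW) (hE.le.trans inf_le_left)
  · exact k2 2 2 D hD.decomp (hE.le.trans inf_le_left)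
  · omega
  · exact even_of_field h2 hK hsa (hE.le.trans inf_le_left) hM.1
  · omega
  · exact k5 F₀ r P hr hc (hE.le.trans inf_le_left)
  · have h10 : Nat.card (pre M) ∣ 3840 := H97.Sp4Ext.card_T7_dvd h7
    refine not_cov_of_nine h3 (fun h9 => ?_) hM
    have := (h9.trans (H262.El.card_pre_eq M)).trans h10
    omega
  · exact res_false hodd hMc hM h8

/-- **`PSp_4(q)`, `q` odd** -/
theorem rowC_psp_two (hodd : Odd (Fintype.card F)) : RowC (PSp 2 F) := by
  intro M hMc hM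
  have h35 : Fintype.card F = 3 ∨ 5 ≤ Fintype.card F := by
    have := Fintype.one_lt_card (α := F)
    obtain ⟨k, hk⟩ := hodd
    omega
  rcases h35 with h3 | h5
  · exact three_false h3 hMc hM
  · rcases psp_miss le_rfl (by rintro ⟨-, h⟩; omega) (by rintro ⟨h, -⟩; omega) (by rintro ⟨-, h⟩; omega)
      hMc.1 with h | h | h
    · exact not_miss hodd hM h
    · exact res_false hodd hMc hM h
    · rcases h with ⟨-, he, -⟩ | ⟨-, K, hK, hsa, hle⟩
      · exact absurd hodd (Nat.not_odd_iff_even.2 he)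
      · exact even_of_field (two_ne hodd) hK hsa hle hM.1

end Main

universe u

open Cfsg.Agent.OrdDiv Cfsg.Agent.H436

/-- **the row `PSp_4(q)`, `q` odd** -/
theorem row_psp_two (q : ℕ) (h2 : ¬ 2 ∣ q) : RowN.{u} (.psp 2 q) := by
  intro T _ _ _ hT
  obtain ⟨F, _, _, hF, ⟨e⟩⟩ := hT.real
  have hodd : Odd (Fintype.card F) := by
    rw [hF, ← Nat.not_even_iff_odd, even_iff_two_dvd]
    exact h2
  exact (rowC_psp_two hodd).row.row8.congr e.symm

end Cfsg.Agent.H815.OddM
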