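import Cfsg.Agent.H660.OddM.RealLin
import Cfsg.Agent.S0246

/-!
# Real unipotent elements of `PSp_4(q)`, `q` odd (TEAM ODDM, S4785)

* `realP_char` : elements of order `p`
* `not_cov_of_nine` : `q = 3`, the two real classes of elements of order `3`: a maximal subgroup whose order is not
  divisible by `9` is not `Cov`
-/

set_option autoImplicit false

namespace Cfsg.Agent.H815.OddM

open Matrix Cfsg.Agent.H453.OddM

section Tau

variable {F : Type*} [Field F]

/-- the unipotent element of a symmetric matrix -/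
def tau (B : Matrix (Fin 2) (Fin 2) F) (hB : Bᵀ = B) : symplecticGroup (Fin 2) F :=
  ⟨fromBlocks 1 B 0 1, by
    rw [SymplecticGroup.mem_iff]
    unfold Matrix.J
    rw [fromBlocks_transpose, fromBlocks_multiply, fromBlocks_multiply, hB]
    simp⟩

/-- the Levi subgroup -/
def lev (A D : Matrix (Fin 2) (Fin 2) F) (h : A * Dᵀ = 1) : symplecticGroup (Fin 2) F :=
  ⟨fromBlocks A 0 0 D, by
    have h2 : D * Aᵀ = 1 := by
      have := congrArg transpose h
      rwa [transpose_mul, transpose_transpose, transpose_one] at this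
    rw [SymplecticGroup.mem_iff]
    unfold Matrix.J
    rw [fromBlocks_transpose, fromBlocks_multiply, fromBlocks_multiply]
    simp [h, h2]⟩

theorem tau_pow (B : Matrix (Fin 2) (Fin 2) F) (hB : Bᵀ = B) (n : ℕ) :
    ((tau B hB ^ n : symplecticGroup (Fin 2) F) : Matrix (Fin 2 ⊕ Fin 2) (Fin 2 ⊕ Fin 2) F) =
      fromBlocks 1 ((n : F) • B) 0 1 := by
  induction n with
  | zero => simp
  | succ n ih =>
    rw [pow_succ]
    show _ * fromBlocks 1 B 0 1 = _
    rw [ih, fromBlocks_multiply]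
    congr 1
    · simp
    · rw [one_mul, mul_one]
      push_cast
      rw [add_smul, one_smul, add_comm]
    · simp
    · simp

theorem tau_inv (B : Matrix (Fin 2) (Fin 2) F) (hB : Bᵀ = B) :
    (((tau B hB)⁻¹ : symplecticGroup (Fin 2) F) : Matrix (Fin 2 ⊕ Fin 2) (Fin 2 ⊕ Fin 2) F) =
      fromBlocks 1 (-B) 0 1 := by
  have h1 : (tau B hB)⁻¹ = tau (-B) (by rw [transpose_neg, hB]) := by
    rw [inv_eq_iff_mul_eq_one]
    apply Subtype.ext
    show fromBlocks 1 B 0 1 * fromBlocks 1 (-B) 0 1 = _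
    rw [fromBlocks_multiply]
    simp
  rw [h1]
  rfl

theorem tau_ne_one {B : Matrix (Fin 2) (Fin 2) F} {hB : Bᵀ = B} (h : B ≠ 0) : tau B hB ≠ 1 := by
  intro h1
  have h2 : fromBlocks 1 B 0 1 = (1 : Matrix (Fin 2 ⊕ Fin 2) (Fin 2 ⊕ Fin 2) F) := congrArg Subtype.val h1
  rw [← fromBlocks_one, fromBlocks_inj] at h2
  exact h h2.2.1

theorem orderOf_tau {p : ℕ} [CharP F p] (hp : p.Prime) {B : Matrix (Fin 2) (Fin 2) F} {hB : Bᵀ = B} (h : B ≠ 0) :
    orderOf (tau B hB) = p := by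
  have := Fact.mk hp
  refine orderOf_eq_prime ?_ (tau_ne_one h)
  apply Subtype.ext
  rw [tau_pow, CharP.cast_eq_zero, zero_smul, fromBlocks_one]
  rfl

theorem tau_real {A D B : Matrix (Fin 2) (Fin 2) F} (hB : Bᵀ = B) (h : A * Dᵀ = 1) (hAB : A * B = -(B * D)) :
    IsReal (tau B hB) := by
  refine ⟨lev A D h, ?_⟩
  rw [mul_inv_eq_iff_eq_mul]
  apply Subtype.ext
  show fromBlocks A 0 0 D * fromBlocks 1 B 0 1 = ((tau B hB)⁻¹).1 * fromBlocks A 0 0 D
  rw [tau_inv, fromBlocks_multiply, fromBlocks_multiply]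
  congr 1 <;> simp [hAB]

/-- the hyperbolic element -/
def hyp (F : Type*) [Field F] : symplecticGroup (Fin 2) F :=
  tau !![1, 0; 0, -1] (by ext i j; fin_cases i <;> fin_cases j <;> rfl)

/-- the other one -/
def ell (F : Type*) [Field F] : symplecticGroup (Fin 2) F := tau 1 transpose_one

theorem hyp_real : IsReal (hyp F) := by
  refine tau_real (A := !![0, 1; 1, 0]) (D := !![0, 1; 1, 0]) _ ?_ ?_
  · ext i j
    fin_cases i <;> fin_cases j <;> simp [Matrix.mul_apply, Fin.sum_univ_two]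
  · ext i j
    fin_cases i <;> fin_cases j <;> simp [Matrix.mul_apply, Fin.sum_univ_two]

theorem ell_real [Finite F] : IsReal (ell F) := by
  obtain ⟨p, hp⟩ := CharP.exists F
  have hp0 : p ≠ 0 := by
    rintro rfl
    have : CharZero F := CharP.charP_to_charZero F
    exact (Nat.card_pos (α := F)).ne' (Nat.card_eq_zero_of_infinite)
  have : NeZero p := ⟨hp0⟩
  obtain ⟨a, b, hab⟩ := CharP.sq_add_sq F p (-1)
  push_cast at hab
  refine tau_real (A := !![(a : F), b; b, -a]) (D := -!![(a : F), b; b, -a]) _ ?_ ?_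
  · ext i j
    fin_cases i <;> fin_cases j <;> simp [Matrix.mul_apply, Fin.sum_univ_two] <;>
      first | linear_combination -hab | linear_combination hab | ring
  · simp

theorem hyp_ne : (!![1, 0; 0, -1] : Matrix (Fin 2) (Fin 2) F) ≠ 0 := by
  intro h
  have := congrFun (congrFun h 0) 0
  simp at this

/-- elements of order `p` -/
theorem realP_char {p : ℕ} [CharP F p] (hp : p.Prime) (h2 : Odd p) : RealP (PSp 2 F) p :=
  realP_quot_center h2 ⟨hyp F, orderOf_tau hp hyp_ne, hyp_real⟩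

end Tau

section Three

open Cfsg.Agent.ClassicalGeometry.SympBasic

variable {F : Type*} [Field F]

/-- `f(v, z v) = 0` only if `z v = v` -/
def An (z : symplecticGroup (Fin 2) F) : Prop :=
  ∀ v, sympForm 2 F v (z.1 *ᵥ v) = 0 → z.1 *ᵥ v = v

theorem An.conj {z : symplecticGroup (Fin 2) F} (h : An z) (g : symplecticGroup (Fin 2) F) : An (g⁻¹ * z * g) := by
  intro v hv
  have hgg : ∀ w : Fin 2 ⊕ Fin 2 → F, g.1 *ᵥ ((g⁻¹).1 *ᵥ w) = w := by
    intro w
    rw [mulVec_mulVec]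
    have h1 : g.1 * (g⁻¹).1 = 1 := congrArg Subtype.val (mul_inv_cancel g)
    rw [h1, one_mulVec]
  have hgg' : ∀ w : Fin 2 ⊕ Fin 2 → F, (g⁻¹).1 *ᵥ (g.1 *ᵥ w) = w := by
    intro w
    rw [mulVec_mulVec]
    have h1 : (g⁻¹).1 * g.1 = 1 := congrArg Subtype.val (inv_mul_cancel g)
    rw [h1, one_mulVec]
  have e : ∀ w : Fin 2 ⊕ Fin 2 → F, (g⁻¹ * z * g).1 *ᵥ w = (g⁻¹).1 *ᵥ (z.1 *ᵥ (g.1 *ᵥ w)) := by
    intro w
    rw [mulVec_mulVec, mulVec_mulVec]
    rfl
  rw [e] at hv ⊢
  rw [← sympForm_mulVec g.2, hgg] at hv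
  rw [h _ hv, hgg']

theorem tau_form (B : Matrix (Fin 2) (Fin 2) F) (v : Fin 2 ⊕ Fin 2 → F) :
    sympForm 2 F v ((fromBlocks 1 B 0 1 : Matrix (Fin 2 ⊕ Fin 2) (Fin 2 ⊕ Fin 2) F) *ᵥ v) =
      (v ∘ Sum.inr) ⬝ᵥ (B *ᵥ (v ∘ Sum.inr)) := by
  have h : v = Sum.elim (v ∘ Sum.inl) (v ∘ Sum.inr) := (Sum.elim_comp_inl_inr v).symm
  conv_lhs => rw [h, fromBlocks_mulVec]
  rw [sympForm_eq_sum, dotProduct]
  refine Finset.sum_congr rfl fun i _ => ?_
  simp only [Sum.elim_inl, Sum.elim_inr, one_mulVec, zero_mulVec, zero_add, Pi.add_apply, Sum.elim_comp_inl,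
    Sum.elim_comp_inr, Function.comp_apply]
  ring

theorem sq_add_sq_three [Fintype F] (h3 : Fintype.card F = 3) {a b : F} (h : a * a + b * b = 0) : a = 0 ∧ b = 0 := by
  have h1 : ∀ x : F, x ≠ 0 → x * x = 1 := by
    intro x hx
    have := FiniteField.pow_card_sub_one_eq_one x hx
    rw [h3] at this
    rw [← this]
    ring
  have h30 : (3 : F) = 0 := by
    have := FiniteField.cast_card_eq_zero F
    rw [h3] at this
    exact_mod_cast this
  by_cases ha : a = 0
  · subst ha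
    refine ⟨rfl, ?_⟩
    have : b * b = 0 := by linear_combination h
    exact mul_self_eq_zero.1 this
  · exfalso
    rw [h1 a ha] at h
    by_cases hb : b = 0
    · subst hb
      exact one_ne_zero (α := F) (by linear_combination h)
    · rw [h1 b hb] at h
      exact one_ne_zero (α := F) (by linear_combination h30 - h)

theorem an_scalar [Fintype F] (h3 : Fintype.card F = 3) {c : F} (hc : c ≠ 0) {z : symplecticGroup (Fin 2) F}
    (hz : z.1 = fromBlocks 1 (c • 1) 0 1) : An z := by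
  intro v hv
  rw [hz, tau_form] at hv
  rw [hz]
  have h1 : v (Sum.inr 0) * v (Sum.inr 0) + v (Sum.inr 1) * v (Sum.inr 1) = 0 := by
    have h2 : c * (v (Sum.inr 0) * v (Sum.inr 0) + v (Sum.inr 1) * v (Sum.inr 1)) = 0 := by
      rw [← hv, smul_mulVec, one_mulVec, dotProduct, Fin.sum_univ_two]
      simp
      ring
    exact (mul_eq_zero.1 h2).resolve_left hc
  obtain ⟨h4, h5⟩ := sq_add_sq_three h3 h1
  have h6 : v ∘ Sum.inr = 0 := by
    funext i
    fin_cases i
    · exact h4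
    · exact h5
  have h : v = Sum.elim (v ∘ Sum.inl) (v ∘ Sum.inr) := (Sum.elim_comp_inl_inr v).symm
  conv_lhs => rw [h, fromBlocks_mulVec]
  rw [h6]
  conv_rhs => rw [h, h6]
  simp

theorem an_ell [Fintype F] (h3 : Fintype.card F = 3) : An (ell F) :=
  an_scalar h3 one_ne_zero (by rw [one_smul]; rfl)

theorem an_ell_inv [Fintype F] (h3 : Fintype.card F = 3) : An (ell F)⁻¹ :=
  an_scalar h3 (c := -1) (neg_ne_zero.2 one_ne_zero) (by rw [neg_smul, one_smul]; exact tau_inv _ _)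

theorem not_an_hyp : ¬ An (hyp F) := by
  intro h
  have h1 := h (Sum.elim 0 1) (by
    show sympForm 2 F _ (fromBlocks 1 _ 0 1 *ᵥ _) = 0
    rw [tau_form, dotProduct, Fin.sum_univ_two]
    simp [Matrix.mulVec, dotProduct, Fin.sum_univ_two])
  have h2 : (fromBlocks 1 !![1, 0; 0, -1] 0 1 : Matrix (Fin 2 ⊕ Fin 2) (Fin 2 ⊕ Fin 2) F) *ᵥ
    (Sum.elim (0 : Fin 2 → F) 1) = (Sum.elim 0 1 : Fin 2 ⊕ Fin 2 → F) := h1
  rw [fromBlocks_mulVec] at h2
  have h3 := congrFun h2 (Sum.inl 0)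
  simp [dotProduct, Fin.sum_univ_two] at h3

/-- two elements of order `3` in a group of order not divisible by `9` -/
theorem conj_of_nine {M : Type*} [Group M] [Finite M] (h9 : ¬ 9 ∣ Nat.card M) {a b : M} (ha : orderOf a = 3)
    (hb : orderOf b = 3) : ∃ m : M, m * a * m⁻¹ = b ∨ m * a * m⁻¹ = b⁻¹ := by
  classical
  have : Fact (Nat.Prime 3) := ⟨Nat.prime_three⟩
  have hfac : (Nat.card M).factorization 3 = 1 := by
    have h3 : 3 ∣ Nat.card M := by rw [← ha]; exact orderOf_dvd_natCard a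
    have h1 : 1 ≤ (Nat.card M).factorization 3 :=
      (Nat.Prime.dvd_iff_one_le_factorization Nat.prime_three Nat.card_pos.ne').1 h3
    have h2 : ¬ 2 ≤ (Nat.card M).factorization 3 := by
      intro h
      apply h9
      exact (Nat.Prime.pow_dvd_iff_le_factorization Nat.prime_three Nat.card_pos.ne' (k := 2)).2 h
    omega
  let A : Sylow 3 M := Sylow.ofCard (Subgroup.zpowers a) (by rw [Nat.card_zpowers, ha, hfac, pow_one])
  let B : Sylow 3 M := Sylow.ofCard (Subgroup.zpowers b) (by rw [Nat.card_zpowers, hb, hfac, pow_one])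
  obtain ⟨m, hm⟩ := MulAction.exists_smul_eq M A B
  have h1 : m * a * m⁻¹ ∈ Subgroup.zpowers b := by
    have h2 : m * a * m⁻¹ ∈ ((m • A : Sylow 3 M) : Subgroup M) := by
      rw [Sylow.coe_subgroup_smul]
      exact Subgroup.smul_mem_pointwise_smul a (MulAut.conj m) _ (Subgroup.mem_zpowers a)
    rw [hm] at h2
    exact h2
  obtain ⟨k, hk⟩ := Subgroup.mem_zpowers_iff.1 h1
  have hb3 : b ^ 3 = 1 := by rw [← hb, pow_orderOf_eq_one]
  have h5 : b ^ k = b ^ (k % 3) := by
    conv_lhs => rw [← Int.emod_add_mul_ediv k 3, _root_.zpow_add, _root_.zpow_mul]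
    rw [show ((3 : ℤ)) = ((3 : ℕ) : ℤ) from rfl, zpow_natCast, hb3, _root_.one_zpow, mul_one]
  have h6 : k % 3 = 0 ∨ k % 3 = 1 ∨ k % 3 = 2 := by omega
  refine ⟨m, ?_⟩
  rw [← hk, h5]
  rcases h6 with h | h | h
  · exfalso
    rw [h5, h, zpow_zero] at hk
    have h7 : a = 1 := by
      have := congrArg (fun y => m⁻¹ * y * m) hk
      simpa [mul_assoc] using this.symm
    rw [h7, orderOf_one] at ha
    omega
  · left
    rw [h, zpow_one]
  · right
    rw [h]
    refine eq_inv_of_mul_eq_one_left ?_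
    rw [show (2 : ℤ) = ((2 : ℕ) : ℤ) from rfl, zpow_natCast, ← pow_succ, hb3]

/-- `PSp_4(3)`: a subgroup of order not divisible by `9` does not meet both real classes of order `3` -/
theorem not_cov_of_nine [Fintype F] (h3 : Fintype.card F = 3) {M : Subgroup (PSp 2 F)} (h9 : ¬ 9 ∣ Nat.card M) :
    ¬ Cov (PSp 2 F) M := by
  intro hM
  have hch : CharP F 3 := by
    obtain ⟨p, hp⟩ := CharP.exists F
    obtain ⟨n, hpp, hn⟩ := FiniteField.card F p
    rw [h3] at hn
    have h1 : p ∣ 3 := by rw [hn]; exact dvd_pow_self p n.ne_zero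
    rwa [(Nat.prime_dvd_prime_iff_eq hpp Nat.prime_three).1 h1] at hp
  have hox : orderOf (hyp F) = 3 := orderOf_tau Nat.prime_three hyp_ne
  have hoy : orderOf (ell F) = 3 := orderOf_tau Nat.prime_three one_ne_zero
  have hZ : ∀ c ∈ Subgroup.center (symplecticGroup (Fin 2) F), c ^ 3 = 1 → c = 1 := by
    intro c hc h1
    have h2 : Nat.card (Subgroup.center (symplecticGroup (Fin 2) F)) = 2 := by
      rw [Cfsg.Agent.S0246.result (q := 3) h3 2 (by norm_num)]
      rfl
    have h4 : c ^ 2 = 1 := by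
      have := pow_card_eq_one' (x := (⟨c, hc⟩ : Subgroup.center (symplecticGroup (Fin 2) F)))
      rw [h2] at this
      exact congrArg Subtype.val this
    rwa [pow_succ, h4, one_mul] at h1
  -- orders in the quotient
  have hq : ∀ z : symplecticGroup (Fin 2) F, orderOf z = 3 →
      orderOf (QuotientGroup.mk z : PSp 2 F) = 3 := by
    intro z hz
    have := Fact.mk Nat.prime_three
    refine orderOf_eq_prime ?_ ?_
    · rw [← QuotientGroup.mk_pow, ← hz, pow_orderOf_eq_one, QuotientGroup.mk_one]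
    · intro h1
      have h2 := hZ z ((QuotientGroup.eq_one_iff z).1 h1) (by rw [← hz, pow_orderOf_eq_one])
      rw [h2, orderOf_one] at hz
      omega
  obtain ⟨g₁, hg₁⟩ := hM.2 (QuotientGroup.mk (hyp F)) (hyp_real.map (QuotientGroup.mk' _))
  obtain ⟨g₂, hg₂⟩ := hM.2 (QuotientGroup.mk (ell F)) (ell_real.map (QuotientGroup.mk' _))
  have ho₁ : orderOf (⟨_, hg₁⟩ : M) = 3 := by
    rw [← Subgroup.orderOf_coe]
    exact (orderOf_injective (MulAut.conj g₁).toMonoidHom (MulAut.conj g₁).injective _).trans (hq _ hox)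
  have ho₂ : orderOf (⟨_, hg₂⟩ : M) = 3 := by
    rw [← Subgroup.orderOf_coe]
    exact (orderOf_injective (MulAut.conj g₂).toMonoidHom (MulAut.conj g₂).injective _).trans (hq _ hoy)
  obtain ⟨m, hm⟩ := conj_of_nine h9 ho₁ ho₂
  -- the conclusion in `PSp`
  have key : ∃ g : PSp 2 F, g * (QuotientGroup.mk (hyp F)) * g⁻¹ = QuotientGroup.mk (ell F) ∨
      g * (QuotientGroup.mk (hyp F)) * g⁻¹ = QuotientGroup.mk (ell F)⁻¹ := by
    refine ⟨g₂⁻¹ * m * g₁, ?_⟩
    rcases hm with h | h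
    · left
      have h1 : (m : PSp 2 F) * (g₁ * (QuotientGroup.mk (hyp F)) * g₁⁻¹) * (m : PSp 2 F)⁻¹ =
        g₂ * (QuotientGroup.mk (ell F)) * g₂⁻¹ := congrArg Subtype.val h
      have h2 := congrArg (fun y => g₂⁻¹ * y * g₂) h1
      simpa [mul_assoc] using h2
    · right
      have h1 : (m : PSp 2 F) * (g₁ * (QuotientGroup.mk (hyp F)) * g₁⁻¹) * (m : PSp 2 F)⁻¹ =
        (g₂ * (QuotientGroup.mk (ell F)) * g₂⁻¹)⁻¹ := congrArg Subtype.val h
      have h2 := congrArg (fun y => g₂⁻¹ * y * g₂) h1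
      rw [QuotientGroup.mk_inv]
      simpa [mul_assoc] using h2
  obtain ⟨g, hg⟩ := key
  obtain ⟨g, rfl⟩ := QuotientGroup.mk_surjective g
  -- lift
  have lift : ∀ z : symplecticGroup (Fin 2) F, z ^ 3 = 1 →
      (QuotientGroup.mk g : PSp 2 F) * (QuotientGroup.mk (hyp F)) * (QuotientGroup.mk g)⁻¹ = QuotientGroup.mk z →
      An z → False := by
    intro z hz h hA
    rw [← QuotientGroup.mk_inv, ← QuotientGroup.mk_mul, ← QuotientGroup.mk_mul] at h
    have h1 := QuotientGroup.eq.1 h.symm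
    have h2 : z⁻¹ * (g * hyp F * g⁻¹) = 1 := by
      refine hZ _ h1 ?_
      have hc := Subgroup.mem_center_iff.1 h1
      have e1 : g * hyp F * g⁻¹ = z * (z⁻¹ * (g * hyp F * g⁻¹)) := by group
      have e2 : (g * hyp F * g⁻¹) ^ 3 = 1 := by
        have : (g * hyp F * g⁻¹) ^ 3 = g * hyp F ^ 3 * g⁻¹ := (map_pow (MulAut.conj g).toMonoidHom (hyp F) 3).symm
        rw [this, ← hox, pow_orderOf_eq_one, mul_one, mul_inv_cancel]
      have hcomm : Commute z (z⁻¹ * (g * hyp F * g⁻¹)) := hc z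
      rw [e1, hcomm.mul_pow, hz, one_mul] at e2
      exact e2
    have h3 : hyp F = g⁻¹ * z * g := by
      have h4 : g * hyp F * g⁻¹ = z := (inv_mul_eq_one.1 h2).symm
      rw [← h4]
      group
    exact not_an_hyp (by rw [h3]; exact hA.conj g)
  rcases hg with h | h
  · exact lift _ (by rw [← hoy, pow_orderOf_eq_one]) h (an_ell h3)
  · exact lift _ (by rw [inv_pow, ← hoy, pow_orderOf_eq_one, inv_one]) h (an_ell_inv h3)

end Three

end Cfsg.Agent.H815.OddM
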